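import Groth.Agent.Lib.HomShExact13.Dual
import Mathlib.CategoryTheory.Sites.LocallyBijective
import Mathlib.CategoryTheory.Sites.EpiMono
import Mathlib.Algebra.Category.Grp.Limits
import Mathlib.Algebra.Category.Grp.FilteredColimits

/-!
# The first Ext sheaf out of a locally free abelian sheaf vanishes
-/

set_option backward.isDefEq.respectTransparency false

universe u

open CategoryTheory CategoryTheory.Limits Opposite

noncomputable section

namespace GrothLib.ExtLatt25

variable {C : Type (u + 1)} [Category.{u} C] {J : GrothendieckTopology C} [HasSheafify J AddCommGrpCat.{u + 1}]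
  (F : Sheaf J AddCommGrpCat.{u + 1})

/-- A family of sections over `T` freely generating `F` on the site over `T`. -/
structure IsFreeAt (T : C) {r : ℕ} (g : Fin r → F.obj.obj (op T)) : Prop where
  locally_eq : ∀ (T' : C) (h : T' ⟶ T) (m n : Fin r → ℤ),
    F.obj.map h.op (∑ i, m i • g i) = F.obj.map h.op (∑ i, n i • g i) → m = n ∨ (⊥ : Sieve T') ∈ J T'
  locally_mem : ∀ (T' : C) (h : T' ⟶ T) (x : F.obj.obj (op T')), ∃ R ∈ J T', ∀ ⦃T'' : C⦄ (k : T'' ⟶ T'), R k →
    ∃ m : Fin r → ℤ, F.obj.map k.op x = F.obj.map (k ≫ h).op (∑ i, m i • g i)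

variable {F}

theorem IsFreeAt.restrict {T : C} {r : ℕ} {g : Fin r → F.obj.obj (op T)} (hg : IsFreeAt F T g) {T' : C} (h : T' ⟶ T) :
    IsFreeAt F T' fun i => F.obj.map h.op (g i) := by
  have e : ∀ m : Fin r → ℤ, ∑ i, m i • F.obj.map h.op (g i) = F.obj.map h.op (∑ i, m i • g i) := fun m => by
    rw [map_sum]
    exact Finset.sum_congr rfl fun i _ => (map_zsmul (F.obj.map h.op).hom _ _).symm
  have c : ∀ {V : C} (k : V ⟶ T') (y : F.obj.obj (op T)),
      F.obj.map k.op (F.obj.map h.op y) = F.obj.map (k ≫ h).op y := fun k y => by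
    rw [op_comp, Functor.map_comp]; rfl
  refine ⟨fun T'' k m n hmn => hg.locally_eq T'' (k ≫ h) m n ?_, fun T'' k x => ?_⟩
  · rw [e, e, c, c] at hmn
    exact hmn
  · obtain ⟨R, hR, hm⟩ := hg.locally_mem T'' (k ≫ h) x
    refine ⟨R, hR, fun V j hj => ?_⟩
    obtain ⟨m, hm'⟩ := hm j hj
    exact ⟨m, by rw [e, c, Category.assoc]; exact hm'⟩

variable {T : C} {r : ℕ} (g : Fin r → F.obj.obj (op T))

/-- The linear combinations of the generators. -/
def comb : (Fin r → ℤ) →+ F.obj.obj (op T) := (Fintype.linearCombination ℤ g).toAddMonoidHom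

omit [HasSheafify J AddCommGrpCat.{u + 1}] in
theorem comb_apply (m : Fin r → ℤ) : comb g m = ∑ i, m i • g i := rfl

/-- The constant presheaf of coefficients over `T`. -/
abbrev coeffs (T : C) (r : ℕ) : (Over T)ᵒᵖ ⥤ AddCommGrpCat.{u + 1} :=
  (Functor.const _).obj (AddCommGrpCat.of (ULift.{u + 1} (Fin r → ℤ)))

/-- The map from the constant presheaf to the restriction of `F`. -/
def combMap : coeffs T r ⟶ (F.over T).obj where
  app U := AddCommGrpCat.ofHom ((F.obj.map U.unop.hom.op).hom.comp ((comb g).comp AddEquiv.ulift.toAddMonoidHom))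
  naturality U V f := by
    refine AddCommGrpCat.ext fun m => ?_
    change F.obj.map V.unop.hom.op (comb g m.down) = F.obj.map f.unop.left.op (F.obj.map U.unop.hom.op (comb g m.down))
    rw [← ConcreteCategory.comp_apply, ← Functor.map_comp, ← op_comp, Over.w]

variable {g}

theorem W_combMap (hg : IsFreeAt F T g) : (J.over T).W (combMap g) := by
  haveI : Presheaf.IsLocallyInjective (J.over T) (combMap g) := ⟨fun {U} x y h => by
    rcases hg.locally_eq _ U.unop.hom x.down y.down h with e | e
    · rw [show x = y from ULift.ext _ _ e, Presheaf.equalizerSieve_self_eq_top]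
      exact GrothendieckTopology.top_mem _ _
    · refine GrothendieckTopology.superset_covering _ bot_le ?_
      rw [GrothendieckTopology.mem_over_iff]
      exact GrothendieckTopology.superset_covering _ bot_le e⟩
  haveI : Presheaf.IsLocallySurjective (J.over T) (combMap g) := ⟨fun {U} s => by
    obtain ⟨R, hR, hm⟩ := hg.locally_mem U.left U.hom s
    rw [GrothendieckTopology.mem_over_iff]
    refine GrothendieckTopology.superset_covering _ ?_ hR
    intro V k hk
    obtain ⟨m, hm'⟩ := hm k hk
    rw [Sieve.overEquiv_iff]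
    exact ⟨ULift.up m, hm'.symm⟩⟩
  exact (J.over T).W_of_isLocallyBijective _

theorem comb_single (i : Fin r) : comb g (Pi.single i 1) = g i := by
  rw [comb_apply, Finset.sum_eq_single i (fun j _ hj => by rw [Pi.single_eq_of_ne hj, zero_smul])
    (fun h => absurd (Finset.mem_univ i) h), Pi.single_eq_same, one_smul]

theorem combMap_top (m : Fin r → ℤ) :
    (combMap g).app (op (Over.mk (𝟙 T))) (ULift.up m) = comb g m := by
  change F.obj.map (𝟙 T).op (comb g m) = comb g m
  rw [op_id, CategoryTheory.Functor.map_id]; rfl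

/-- Maps out of a freely generated sheaf are determined by the generators. -/
theorem hom_ext_free (hg : IsFreeAt F T g) {A : Sheaf J AddCommGrpCat.{u + 1}} {φ ψ : F.over T ⟶ A.over T}
    (h : ∀ i, φ.hom.app (op (Over.mk (𝟙 T))) (g i) = ψ.hom.app (op (Over.mk (𝟙 T))) (g i)) : φ = ψ := by
  refine Sheaf.hom_ext ((W_combMap hg _ (A.over T).property).1 ?_)
  refine NatTrans.ext (funext fun U => AddCommGrpCat.ext fun m => ?_)
  let t : U.unop ⟶ Over.mk (𝟙 T) := Over.homMk U.unop.hom (Category.comp_id _)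
  have hc : ∀ χ : F.over T ⟶ A.over T, χ.hom.app U ((combMap g).app U m) =
      (A.over T).obj.map t.op (χ.hom.app (op (Over.mk (𝟙 T))) (comb g m.down)) := fun χ =>
    NatTrans.naturality_apply χ.hom t.op (comb g m.down)
  change φ.hom.app U ((combMap g).app U m) = ψ.hom.app U ((combMap g).app U m)
  rw [hc, hc]
  congr 1
  rw [comb_apply, map_sum, map_sum]
  exact Finset.sum_congr rfl fun i _ => by rw [map_zsmul, map_zsmul, h i]

/-- Any values at the generators extend. -/
theorem exists_hom_free (hg : IsFreeAt F T g) (A : Sheaf J AddCommGrpCat.{u + 1}) (a : Fin r → A.obj.obj (op T)) :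
    ∃ φ : F.over T ⟶ A.over T, ∀ i, φ.hom.app (op (Over.mk (𝟙 T))) (g i) = a i := by
  let β : coeffs T r ⟶ (A.over T).obj :=
    { app := fun U => AddCommGrpCat.ofHom
        ((A.obj.map U.unop.hom.op).hom.comp
          ((Fintype.linearCombination ℤ a).toAddMonoidHom.comp AddEquiv.ulift.toAddMonoidHom))
      naturality := fun U V f => by
        refine AddCommGrpCat.ext fun m => ?_
        change A.obj.map V.unop.hom.op (Fintype.linearCombination ℤ a m.down) =
          A.obj.map f.unop.left.op (A.obj.map U.unop.hom.op (Fintype.linearCombination ℤ a m.down))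
        rw [← ConcreteCategory.comp_apply, ← Functor.map_comp, ← op_comp, Over.w] }
  obtain ⟨φ, hφ⟩ := (W_combMap hg _ (A.over T).property).2 β
  refine ⟨⟨φ⟩, fun i => ?_⟩
  have h := ConcreteCategory.congr_hom (congrArg (fun χ : coeffs T r ⟶ (A.over T).obj => χ.app (op (Over.mk (𝟙 T)))) hφ)
    (ULift.up (Pi.single i 1))
  rw [NatTrans.comp_app, ConcreteCategory.comp_apply, combMap_top, comb_single] at h
  rw [h]
  change A.obj.map (𝟙 T).op (Fintype.linearCombination ℤ a (Pi.single i (1 : ℤ))) = a i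
  rw [op_id, CategoryTheory.Functor.map_id, ConcreteCategory.id_apply, Fintype.linearCombination_apply_single, one_smul]

variable (F) in
/-- `F` is free of finite rank on the members of a covering sieve of every object. -/
def IsLocFree : Prop :=
  ∀ T : C, ∃ R ∈ J T, ∀ ⦃T' : C⦄ (h : T' ⟶ T), R h → ∃ (r : ℕ) (g : Fin r → F.obj.obj (op T')), IsFreeAt F T' g

/-- `𝓗om(F, –)` is exact for locally free `F`. -/
theorem epi_homShMap (hF : IsLocFree F) {A B : Sheaf J AddCommGrpCat.{u + 1}} (p : A ⟶ B) [Epi p] :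
    Epi (HomSh.homShMap J (𝟙 F) p) := by
  haveI : Sheaf.IsLocallySurjective p := (Sheaf.isLocallySurjective_iff_epi' _ p).2 inferInstance
  refine (Sheaf.isLocallySurjective_iff_epi' _ _).1 ⟨fun {T} φ => ?_⟩
  obtain ⟨R, hR, hfree⟩ := hF T
  refine J.transitive hR _ fun T₁ h hh => ?_
  obtain ⟨r, g, hg⟩ := hfree h hh
  let φ₁ : F.over T₁ ⟶ B.over T₁ := (HomSh.homSh J F B).obj.map h.op φ
  let q : Fin r → B.obj.obj (op T₁) := fun i => φ₁.hom.app (op (Over.mk (𝟙 T₁))) (g i)
  have hq : (Finset.univ.inf fun i => Presheaf.imageSieve p.hom (q i)) ∈ J T₁ :=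
    Finset.inf_induction (J.top_mem _) (fun _ h₁ _ h₂ => J.intersection_covering h₁ h₂)
      fun i _ => Presheaf.imageSieve_mem J p.hom (q i)
  refine GrothendieckTopology.superset_covering _ ?_ hq
  intro T₂ k hk
  have hk' : ∀ i, Presheaf.imageSieve p.hom (q i) k := fun i =>
    (Finset.inf_le (f := fun i => Presheaf.imageSieve p.hom (q i)) (Finset.mem_univ i)) _ hk
  choose b hb using hk'
  obtain ⟨ψ, hψ⟩ := exists_hom_free (hg.restrict k) A b
  refine ⟨ψ, ?_⟩
  refine hom_ext_free (hg.restrict k) fun i => ?_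
  have hnat : (((HomSh.homSh J F B).obj.map (k ≫ h).op φ : F.over T₂ ⟶ B.over T₂)).hom.app (op (Over.mk (𝟙 T₂)))
      (F.obj.map k.op (g i)) = B.obj.map k.op (q i) := by
    rw [op_comp, Functor.map_comp, ConcreteCategory.comp_apply]
    exact NatTrans.naturality_apply φ₁.hom
      (Over.homMk k (by simp) : Over.mk (𝟙 T₂ ≫ k) ⟶ Over.mk (𝟙 T₁)).op (g i)
  exact ((congrArg (p.hom.app (op T₂)) (hψ i)).trans (hb i)).trans hnat.symm

variable [HasInjectiveResolutions (Sheaf J AddCommGrpCat.{u + 1})]

/-- The first Ext sheaf out of a locally free sheaf vanishes. -/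
theorem isZero_extSh_one (hF : IsLocFree F) (P : Sheaf J AddCommGrpCat.{u + 1}) :
    IsZero ((HomSh.extSh J F 1).obj P) := by
  rw [HomSh.extSh_def]
  let I : InjectiveResolution P := injectiveResolution P
  refine IsZero.of_iso ?_ (I.isoRightDerivedObj (HomSh.homShFunctor J F) 1)
  rw [HomologicalComplex.homologyFunctor_obj, ← HomologicalComplex.exactAt_iff_isZero_homology,
    HomologicalComplex.exactAt_iff' _ 0 1 2 (by simp) (by simp)]
  let d₁ := I.cocomplex.d 1 2
  let π := kernel.lift d₁ (I.cocomplex.d 0 1) (I.cocomplex.d_comp_d 0 1 2)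
  haveI : Epi π := by
    have := I.exact_succ 0
    exact this.epi_kernelLift
  haveI := epi_homShMap hF π
  have hker := HomShExact13.exact_homShMap_right F
    (ShortComplex.exact_of_f_is_kernel (ShortComplex.mk (kernel.ι d₁) d₁ (kernel.condition _)) (kernelIsKernel d₁))
    inferInstance
  haveI := HomShExact13.mono_homShMap_right F (kernel.ι d₁)
  haveI : Mono ((ShortComplex.mk (kernel.ι d₁) d₁ (kernel.condition _)).map (HomSh.homShFunctor J F)).f :=
    HomShExact13.mono_homShMap_right F (kernel.ι d₁)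
  rw [ShortComplex.exact_iff_exact_up_to_refinements]
  intro A x hx
  obtain ⟨A', ρ, hρ, y, hy⟩ := surjective_up_to_refinements_of_epi (HomSh.homShMap J (𝟙 F) π) (hker.lift x hx)
  refine ⟨A', ρ, hρ, y, ?_⟩
  have h1 : hker.lift x hx ≫ (HomSh.homShFunctor J F).map (kernel.ι d₁) = x := hker.lift_f x hx
  have h2 : (HomSh.homShFunctor J F).map π ≫ (HomSh.homShFunctor J F).map (kernel.ι d₁) =
      (HomSh.homShFunctor J F).map (I.cocomplex.d 0 1) := by
    rw [← Functor.map_comp, kernel.lift_ι]
  conv_lhs => rw [← h1, reassoc_of% hy]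
  exact congrArg (y ≫ ·) h2

end GrothLib.ExtLatt25
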