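import Groth.Agent.Lib.ExtLatt25.Basic
import Groth.Agent.Lib.AlgSp.Descent
import Groth.Agent.Lib.ChowVar.Pts
import Groth.Agent.Lib.HomScheme.Const
import Groth.Prelude.Def_CGrpSh
import Groth.Prelude.Def_TwC

/-!
# Etale locally constant lattices give locally free abelian sheaves
-/

set_option backward.isDefEq.respectTransparency false

universe u

open CategoryTheory CategoryTheory.Limits MonoidalCategory CartesianMonoidalCategory MonObj AlgebraicGeometry Opposite

noncomputable section

namespace GrothLib.ExtLatt25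

variable {S S' : Scheme.{u}} (f : S' ⟶ S) {X : Over S} [GrpObj X] [IsCommMonObj X] {r : ℕ}
  {e : Red.bc f X ≅ TwC.const S' (Multiplicative (Fin r → ℤ))}

variable (e) in
/-- The point of index `m`, over any scheme over `S'`. -/
def gen (W : Over S') (m : Multiplicative (Fin r → ℤ)) : (Over.map f).obj W ⟶ X :=
  (ChowVar.bcPts f W).symm (toUnit W ≫ TwC.pt S' _ m ≫ e.inv)

theorem gen_mul (he : TwC.IsConstGrp (Multiplicative (Fin r → ℤ)) (Red.bc f X) e) (W : Over S')
    (m n : Multiplicative (Fin r → ℤ)) : gen f e W (m * n) = gen f e W m * gen f e W n := by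
  rw [gen, gen, gen, ← map_mul, ← MonObj.comp_mul]
  congr 2
  exact (he m n).symm

variable (e) in
theorem gen_left (W : Over S') (m : Multiplicative (Fin r → ℤ)) :
    (gen f e W m).left = W.hom ≫ Sigma.ι (fun _ : Multiplicative (Fin r → ℤ) => S') m ≫ e.inv.left ≫
      pullback.fst X.hom f := by
  rw [← ChowVar.bcPts_left_fst f W (gen f e W m), gen, MulEquiv.apply_symm_apply]
  simp [TwC.pt]

theorem sum_gen (he : TwC.IsConstGrp (Multiplicative (Fin r → ℤ)) (Red.bc f X) e) (W : Over S') (m : Fin r → ℤ) :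
    ∑ i, m i • (show (CGrpSh.pts Scheme.fppfPrecoverage X).obj.obj (op ((Over.map f).obj W)) from
        ULift.up (Additive.ofMul (gen f e W (Multiplicative.ofAdd (Pi.single i 1))))) =
      ULift.up (Additive.ofMul (gen f e W (Multiplicative.ofAdd m))) := by
  let φ : (Fin r → ℤ) →+ (CGrpSh.pts Scheme.fppfPrecoverage X).obj.obj (op ((Over.map f).obj W)) :=
    AddMonoidHom.mk' (fun m => ULift.up (Additive.ofMul (gen f e W (Multiplicative.ofAdd m)))) fun a b =>
      congrArg (fun z => ULift.up (Additive.ofMul z)) (gen_mul f he W (Multiplicative.ofAdd a) (Multiplicative.ofAdd b))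
  change ∑ i, m i • φ (Pi.single i 1) = φ m
  conv_rhs => rw [show m = ∑ i, m i • Pi.single i (1 : ℤ) from by
    funext j; simp [Finset.sum_apply, Pi.single_apply]]
  simp only [map_sum, map_zsmul]

/-- The points of a constant lattice are freely generated. -/
theorem isFreeAt_pts (he : TwC.IsConstGrp (Multiplicative (Fin r → ℤ)) (Red.bc f X) e) (W : Over S') :
    IsFreeAt (CGrpSh.pts Scheme.fppfPrecoverage X) ((Over.map f).obj W) fun i =>
      ULift.up (Additive.ofMul (gen f e W (Multiplicative.ofAdd (Pi.single i 1)))) := by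
  refine ⟨fun T h m n hmn => ?_, fun T h x => ?_⟩
  · rw [sum_gen f he, sum_gen f he] at hmn
    have h0 : h ≫ gen f e W (Multiplicative.ofAdd m) = h ≫ gen f e W (Multiplicative.ofAdd n) :=
      congrArg (fun z => Additive.toMul (ULift.down z)) hmn
    by_cases hne : IsEmpty ↥T.left
    · exact Or.inr (AlgSp.bot_mem_of_isEmpty T)
    refine Or.inl ?_
    obtain ⟨t⟩ := not_isEmpty_iff.1 hne
    let v := h.left ≫ W.hom
    let p : Multiplicative (Fin r → ℤ) → (T.left ⟶ (TwC.const S' (Multiplicative (Fin r → ℤ))).left) := fun l =>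
      v ≫ Sigma.ι (fun _ : Multiplicative (Fin r → ℤ) => S') l
    have hp : p (Multiplicative.ofAdd m) = p (Multiplicative.ofAdd n) := by
      rw [← cancel_mono e.inv.left]
      apply pullback.hom_ext
      · have h1 := congrArg CommaMorphism.left h0
        simp only [Over.comp_left, gen_left] at h1
        simpa [p, v] using h1
      · have hs : e.inv.left ≫ pullback.snd X.hom f = (TwC.const S' (Multiplicative (Fin r → ℤ))).hom := Over.w e.inv
        simp only [Category.assoc]
        rw [hs]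
        simp [p]
    by_contra hmn'
    have hd := disjoint_opensRange_sigmaι (fun _ : Multiplicative (Fin r → ℤ) => S') (Multiplicative.ofAdd m)
      (Multiplicative.ofAdd n) (fun h' => hmn' (Multiplicative.ofAdd.injective h'))
    refine hd.le_bot (x := p (Multiplicative.ofAdd m) t) ⟨⟨v t, rfl⟩, ?_⟩
    rw [hp]
    exact ⟨v t, rfl⟩
  · let W₂ : Over S' := Over.mk (h.left ≫ W.hom)
    let τ : (Over.map f).obj W₂ ⟶ T := Over.homMk (𝟙 _) (by
      have := Over.w h
      simp only [Over.map_obj_hom] at this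
      simp [W₂, ← this])
    let s : T ⟶ X := Additive.toMul x.down
    let a : T.left ⟶ (TwC.const S' (Multiplicative (Fin r → ℤ))).left :=
      (ChowVar.bcPts f W₂ (τ ≫ s) ≫ e.hom).left
    let O : Multiplicative (Fin r → ℤ) → T.left.Opens := fun l =>
      a ⁻¹ᵁ (Sigma.ι (fun _ : Multiplicative (Fin r → ℤ) => S') l).opensRange
    let V : ULift.{u} (Multiplicative (Fin r → ℤ)) → Over S := fun l => Over.mk ((O l.down).ι ≫ T.hom)
    let c : ∀ l, V l ⟶ T := fun l => Over.homMk (O l.down).ι
    have hmem : Sieve.ofArrows V c ∈ _root_.AlgSp.J S T := by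
      refine AlgSp.ofArrows_mem V c (fun l => inferInstanceAs (Flat (O l.down).ι))
        (fun l => inferInstanceAs (LocallyOfFinitePresentation (O l.down).ι)) fun y => ?_
      obtain ⟨l, z, hz⟩ := (sigmaOpenCover (fun _ : Multiplicative (Fin r → ℤ) => S')).exists_eq (a y)
      exact ⟨ULift.up l, ⟨y, ⟨z, hz⟩⟩, rfl⟩
    refine ⟨Sieve.ofArrows V c, hmem, fun U k hk => ?_⟩
    obtain ⟨_, j, _, ⟨l⟩, rfl⟩ := hk
    refine ⟨Multiplicative.toAdd l.down, ?_⟩
    rw [sum_gen f he]
    change ULift.up (Additive.ofMul ((j ≫ c l) ≫ s)) =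
      ULift.up (Additive.ofMul (((j ≫ c l) ≫ h) ≫ gen f e W l.down))
    congr 2
    rw [Category.assoc, Category.assoc, Category.assoc]
    congr 1
    apply Over.OverMorphism.ext
    have ha : (O l.down).ι ≫ a = ((O l.down).ι ≫ a ≫ (TwC.const S' (Multiplicative (Fin r → ℤ))).hom) ≫
        Sigma.ι (fun _ : Multiplicative (Fin r → ℤ) => S') l.down := by
      simpa using HomScheme.eq_of_mem_piece S' (Multiplicative (Fin r → ℤ)) ((O l.down).ι ≫ a) l.down fun y => y.2
    have hw : a ≫ (TwC.const S' (Multiplicative (Fin r → ℤ))).hom = h.left ≫ W.hom :=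
      Over.w (ChowVar.bcPts f W₂ (τ ≫ s) ≫ e.hom)
    have hs : s.left = a ≫ e.inv.left ≫ pullback.fst X.hom f := by
      have h1 := ChowVar.bcPts_left_fst f W₂ (τ ≫ s)
      have h2 : a ≫ e.inv.left = (ChowVar.bcPts f W₂ (τ ≫ s)).left := by
        rw [← Over.comp_left, Category.assoc, e.hom_inv_id, Category.comp_id]
      rw [reassoc_of% h2, h1]
      simp [τ]
    simp only [Over.comp_left, gen_left, hs, c, Over.homMk_left]
    rw [reassoc_of% ha, reassoc_of% hw]

/-- Etale locally constant lattices are locally free sheaves. -/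
theorem isLocFree_pts (hX : TwC.Locally S TwC.Topology.etale (fun S' f =>
      ∃ (r : ℕ) (e : Red.bc f X ≅ TwC.const S' (Multiplicative (Fin r → ℤ))),
        TwC.IsConstGrp (Multiplicative (Fin r → ℤ)) (Red.bc f X) e)) :
    IsLocFree (CGrpSh.pts Scheme.fppfPrecoverage X) := by
  intro T
  choose S₁ f₁ hf₁ hs₁ r₁ e₁ he₁ using hX
  let W : ∀ y : T.left, Over (S₁ (T.hom y)) := fun y => Over.mk (pullback.snd T.hom (f₁ (T.hom y)))
  let c : ∀ y : T.left, (Over.map (f₁ (T.hom y))).obj (W y) ⟶ T := fun y =>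
    Over.homMk (pullback.fst T.hom (f₁ (T.hom y))) pullback.condition
  haveI := hf₁
  have hmem : Sieve.ofArrows (fun y => (Over.map (f₁ (T.hom y))).obj (W y)) c ∈ _root_.AlgSp.J S T := by
    refine AlgSp.ofArrows_mem _ c (fun y => ?_) (fun y => ?_) fun y => ?_
    · exact inferInstanceAs (Flat (pullback.fst T.hom (f₁ (T.hom y))))
    · exact inferInstanceAs (LocallyOfFinitePresentation (pullback.fst T.hom (f₁ (T.hom y))))
    · obtain ⟨z, hz⟩ := hs₁ (T.hom y)
      obtain ⟨w, hw, -⟩ := Scheme.Pullback.exists_preimage_pullback y z hz.symm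
      exact ⟨y, w, hw⟩
  refine ⟨_, hmem, fun T' h hh => ?_⟩
  obtain ⟨_, j, _, ⟨y⟩, -⟩ := hh
  exact ⟨_, _, (isFreeAt_pts (f₁ (T.hom y)) (he₁ (T.hom y)) (W y)).restrict j⟩

end GrothLib.ExtLatt25
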